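import Mathlib.CategoryTheory.Sites.PrecoverageToGrothendieck
import Mathlib.CategoryTheory.Sites.IsSheafFor

universe w v₁ u₁

open CategoryTheory CategoryTheory.Limits Opposite

namespace Groth.Agent.GenTop.Basic

variable {C : Type u₁} [Category.{v₁} C]

theorem bind_mem (P : Precoverage C) [P.IsStableUnderComposition] {X : C} {R : Presieve X}
    (hR : R ∈ P X) (R₂ : ∀ ⦃Y : C⦄ ⦃f : Y ⟶ X⦄, R f → Presieve Y)
    (h₂ : ∀ ⦃Y : C⦄ ⦃f : Y ⟶ X⦄ (hf : R f), R₂ hf ∈ P Y) : Presieve.bind R R₂ ∈ P X := by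
  let ι := Σ Y : C, {f : Y ⟶ X // R f}
  let σ : ι → Type (max u₁ v₁) := fun i => Σ Z : C, {g : Z ⟶ i.1 // R₂ i.2.2 g}
  have e1 : Presieve.ofArrows (fun i : ι => i.1) (fun i => i.2.1) = R := by
    funext Y f
    exact propext ⟨fun ⟨i⟩ => i.2.2, fun h => ⟨(⟨Y, f, h⟩ : ι)⟩⟩
  have e2 : ∀ i : ι, Presieve.ofArrows (fun j : σ i => j.1) (fun j => j.2.1) = R₂ i.2.2 := by
    intro i
    funext Z g
    exact propext ⟨fun ⟨j⟩ => j.2.2, fun h => ⟨(⟨Z, g, h⟩ : σ i)⟩⟩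
  have := P.comp_mem_coverings (fun i : ι => i.2.1) (by rw [e1]; exact hR)
    (σ := σ) (Y := fun i j => j.1) (fun i j => j.2.1) (fun i => by rw [e2]; exact h₂ _)
  convert this using 1
  funext Z f
  apply propext
  constructor
  · rintro ⟨Y, g, f, hf, hg, rfl⟩
    exact ⟨(⟨⟨Y, f, hf⟩, ⟨Z, g, hg⟩⟩ : Σ i, σ i)⟩
  · rintro ⟨⟨⟨Y, f, hf⟩, ⟨Z, g, hg⟩⟩⟩
    exact ⟨Y, g, f, hf, hg, rfl⟩

variable (C' : C → Prop) (P P' : Precoverage C)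

/-- sieves containing a composite covering family -/
def Cov (X : C) (S : Sieve X) : Prop :=
  ∃ R ∈ P X, ∀ ⦃Y : C⦄ ⦃f : Y ⟶ X⦄, R f →
    C' Y ∧ ∃ R' ∈ P' Y, ∀ ⦃Z : C⦄ ⦃g : Z ⟶ Y⦄, R' g → S (g ≫ f)

variable [P.HasPullbacks] [P.IsStableUnderBaseChange] [P.IsStableUnderComposition]
  (hP'C : ∀ ⦃X : C⦄ ⦃R : Presieve X⦄, R ∈ P' X → C' X ∧ ∀ ⦃Y : C⦄ ⦃f : Y ⟶ X⦄, R f → C' Y)
  (hP'id : ∀ ⦃X : C⦄, C' X → Presieve.singleton (𝟙 X) ∈ P' X)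
  (ha : ∀ ⦃X : C⦄ ⦃R : Presieve X⦄, R ∈ P' X → ∀ ⦃T : C⦄ (g : T ⟶ X), C' T →
    ∃ _ : R.HasPullbacks g, Presieve.pullbackArrows g R ∈ P' T)
  (hb : ∀ X : C, ∃ R ∈ P X, ∀ ⦃Y : C⦄ ⦃f : Y ⟶ X⦄, R f → C' Y)
  (hc : ∀ ⦃S : C⦄ ⦃R₁ : Presieve S⦄, R₁ ∈ P' S → ∀ (R₂ : ∀ ⦃Y : C⦄ ⦃f : Y ⟶ S⦄, R₁ f → Presieve Y),
    (∀ ⦃Y : C⦄ ⦃f : Y ⟶ S⦄ (hf : R₁ f), R₂ hf ∈ P Y ∧ ∀ ⦃Z : C⦄ ⦃g : Z ⟶ Y⦄, R₂ hf g → C' Z) →
    ∀ (R₃ : ∀ ⦃Y : C⦄ ⦃f : Y ⟶ S⦄ (hf : R₁ f) ⦃Z : C⦄ ⦃g : Z ⟶ Y⦄, R₂ hf g → Presieve Z),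
    (∀ ⦃Y : C⦄ ⦃f : Y ⟶ S⦄ (hf : R₁ f) ⦃Z : C⦄ ⦃g : Z ⟶ Y⦄ (hg : R₂ hf g), R₃ hf hg ∈ P' Z) →
    ∃ T ∈ P' S, ∀ ⦃W : C⦄ ⦃q : W ⟶ S⦄, T q →
      ∃ (Y Z V : C) (f : Y ⟶ S) (hf : R₁ f) (g : Z ⟶ Y) (hg : R₂ hf g) (h : V ⟶ Z)
        (_ : R₃ hf hg h) (r : W ⟶ V), r ≫ h ≫ g ≫ f = q)

include hP'id hb in
theorem cov_top (X : C) : Cov C' P P' X ⊤ := by
  obtain ⟨R, hR, hRC⟩ := hb X
  exact ⟨R, hR, fun Y f hf => ⟨hRC hf, _, hP'id (hRC hf), fun _ _ _ => trivial⟩⟩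

include hP'id hb in
theorem cov_of_P (X : C) (R : Presieve X) (hR : R ∈ P X) : Cov C' P P' X (Sieve.generate R) := by
  choose R₂ h₂ h₂C using fun Y : C => hb Y
  refine ⟨_, bind_mem P hR (fun Y f _ => R₂ Y) (fun Y f _ => h₂ Y), ?_⟩
  rintro Z _ ⟨Y, g, f, hf, hg, rfl⟩
  refine ⟨h₂C Y hg, _, hP'id (h₂C Y hg), ?_⟩
  rintro _ _ ⟨⟩
  rw [Category.id_comp]
  exact ⟨_, g, f, hf, rfl⟩

include ha hb in
theorem cov_of_P' (X : C) (R : Presieve X) (hR : R ∈ P' X) :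
    Cov C' P P' X (Sieve.generate R) := by
  obtain ⟨R₀, hR₀, hR₀C⟩ := hb X
  refine ⟨R₀, hR₀, fun Y f hf => ⟨hR₀C hf, ?_⟩⟩
  obtain ⟨hp, hmem⟩ := ha hR f (hR₀C hf)
  refine ⟨_, hmem, ?_⟩
  rintro _ _ ⟨Z, h, hh⟩
  haveI := R.hasPullback f hh
  exact ⟨Z, pullback.fst h f, h, hh, pullback.condition⟩

include ha hb in
theorem cov_pullback {X : C} {S : Sieve X} (hS : Cov C' P P' X S) {T : C} (g : T ⟶ X) :
    Cov C' P P' T (S.pullback g) := by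
  obtain ⟨R, hR, hR'⟩ := hS
  choose R₂ h₂ h₂C using fun Y : C => hb Y
  haveI := P.hasPullbacks_of_mem g hR
  refine ⟨_, bind_mem P (Precoverage.pullbackArrows_mem g hR) (fun Y f _ => R₂ Y)
    (fun Y f _ => h₂ Y), ?_⟩
  rintro Z _ ⟨_, l, _, ⟨Y, f, hf⟩, hl, rfl⟩
  haveI := R.hasPullback g hf
  obtain ⟨hYC, R', hR'mem, hR'S⟩ := hR' hf
  obtain ⟨hp, hmem⟩ := ha hR'mem (l ≫ pullback.fst f g) (h₂C _ hl)
  refine ⟨h₂C _ hl, _, hmem, ?_⟩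
  rintro _ _ ⟨V, q, hq⟩
  haveI := R'.hasPullback (l ≫ pullback.fst f g) hq
  show S _
  have : (pullback.snd q (l ≫ pullback.fst f g) ≫ l ≫ pullback.snd f g) ≫ g =
      pullback.fst q (l ≫ pullback.fst f g) ≫ q ≫ f := by
    simp only [Category.assoc]
    rw [← pullback.condition, ← Category.assoc l, ← Category.assoc (pullback.snd q _),
      ← pullback.condition, Category.assoc]
  rw [this]
  exact S.downward_closed (hR'S hq) _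

include hc in
theorem cov_transitive {X : C} {S T : Sieve X} (hS : Cov C' P P' X S)
    (hT : ∀ ⦃Y : C⦄ ⦃f : Y ⟶ X⦄, S f → Cov C' P P' Y (T.pullback f)) : Cov C' P P' X T := by
  obtain ⟨R, hR, hR'⟩ := hS
  refine ⟨R, hR, fun Y f hf => ⟨(hR' hf).1, ?_⟩⟩
  obtain ⟨hYC, R', hR'mem, hR'S⟩ := hR' hf
  have key : ∀ ⦃Z : C⦄ ⦃g : Z ⟶ Y⦄, R' g → Cov C' P P' Z (T.pullback (g ≫ f)) :=
    fun Z g hg => hT (hR'S hg)
  choose R₂ h₂ h₂' using key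
  choose h₂C R₃ h₃ h₃T using h₂'
  obtain ⟨Q, hQ, hQ'⟩ := hc hR'mem R₂ (fun Z g hg => ⟨h₂ hg, fun W l hl => h₂C hg hl⟩)
    (fun Z g hg W l hl => R₃ hg hl) (fun Z g hg W l hl => h₃ hg hl)
  refine ⟨Q, hQ, fun W q hq => ?_⟩
  obtain ⟨Z, W', V, g, hg, l, hl, h, hh, r, rfl⟩ := hQ' hq
  have := T.downward_closed (h₃T hg hl hh) r
  simpa using this

include hP'id ha hb hc in
theorem mem_iff (X : C) (S : Sieve X) :
    S ∈ (P ⊔ P').toGrothendieck X ↔ Cov C' P P' X S := by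
  constructor
  · intro h
    induction h with
    | of X R hR =>
      rcases hR with hR | hR
      · exact cov_of_P C' P P' hP'id hb X R hR
      · exact cov_of_P' C' P P' ha hb X R hR
    | top X => exact cov_top C' P P' hP'id hb X
    | pullback X S _ Y f ih => exact cov_pullback C' P P' ha hb ih f
    | transitive X S T _ _ ih₁ ih₂ => exact cov_transitive C' P P' hc ih₁ ih₂
  · rintro ⟨R, hR, hR'⟩
    refine ((P ⊔ P').toGrothendieck).transitive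
      (Precoverage.generate_mem_toGrothendieck (show R ∈ (P ⊔ P') X from Or.inl hR)) _ ?_
    rintro Y _ ⟨Z, h, f, hf, rfl⟩
    rw [Sieve.pullback_comp]
    refine ((P ⊔ P').toGrothendieck).pullback_stable h ?_
    obtain ⟨-, R', hR'mem, hR'S⟩ := hR' hf
    refine ((P ⊔ P').toGrothendieck).superset_covering ?_
      (Precoverage.generate_mem_toGrothendieck (show R' ∈ (P ⊔ P') Z from Or.inr hR'mem))
    rw [Sieve.generate_le_iff]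
    exact fun W g hg => hR'S hg

include ha hb in
theorem isSheaf_iff (F : Cᵒᵖ ⥤ Type w) :
    Presieve.IsSheaf (P ⊔ P').toGrothendieck F ↔
      (∀ ⦃X : C⦄ ⦃R : Presieve X⦄, R ∈ P X → Presieve.IsSheafFor F R) ∧
      (∀ ⦃X : C⦄ ⦃R : Presieve X⦄, R ∈ P' X → Presieve.IsSheafFor F R) := by
  constructor
  · exact fun h => ⟨fun X R hR => h.isSheafFor_of_mem_precoverage (show R ∈ (P ⊔ P') X from Or.inl hR),
      fun X R hR => h.isSheafFor_of_mem_precoverage (show R ∈ (P ⊔ P') X from Or.inr hR)⟩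
  rintro ⟨hP, hP'⟩
  have hPpb : ∀ {X : C} {R : Presieve X}, R ∈ P X → ∀ {Y : C} (g : Y ⟶ X),
      Presieve.IsSheafFor F ((Sieve.generate R).pullback g).arrows := by
    intro X R hR Y g
    haveI := P.hasPullbacks_of_mem g hR
    rw [← Sieve.pullbackArrows_comm, ← Presieve.isSheafFor_iff_generate]
    exact hP (Precoverage.pullbackArrows_mem g hR)
  have hCpb : ∀ {X : C} {R : Presieve X}, R ∈ P' X → ∀ {Y : C} (g : Y ⟶ X), C' Y →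
      Presieve.IsSheafFor F ((Sieve.generate R).pullback g).arrows := by
    intro X R hR Y g hY
    obtain ⟨hp, hmem⟩ := ha hR g hY
    rw [← Sieve.pullbackArrows_comm, ← Presieve.isSheafFor_iff_generate]
    exact hP' hmem
  have hsep : ∀ {X : C} {R : Presieve X}, R ∈ P' X → ∀ {Y : C} (g : Y ⟶ X),
      Presieve.IsSeparatedFor F ((Sieve.generate R).pullback g).arrows := by
    intro X R hR Y g x t₁ t₂ h₁ h₂
    obtain ⟨R₀, hR₀, hR₀C⟩ := hb Y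
    refine (hP hR₀).isSeparatedFor.ext fun Z r hr => ?_
    refine (hCpb hR (r ≫ g) (hR₀C hr)).isSeparatedFor.ext fun V l hl => ?_
    have hl' : ((Sieve.generate R).pullback g) (l ≫ r) := by
      show (Sieve.generate R) ((l ≫ r) ≫ g)
      rw [Category.assoc]
      exact hl
    rw [← comp_apply, ← comp_apply, ← F.map_comp, ← op_comp, h₁ _ hl', h₂ _ hl']
  rw [Precoverage.isSheaf_toGrothendieck_iff]
  intro X Y g R hR
  rcases hR with hR | hR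
  · exact hPpb hR g
  rw [← Presieve.isSeparatedFor_and_exists_isAmalgamation_iff_isSheafFor]
  refine ⟨hsep hR g, fun x hx => ?_⟩
  obtain ⟨R₀, hR₀, hR₀C⟩ := hb Y
  let S := (Sieve.generate R).pullback g
  -- the restricted families
  let xr : ∀ ⦃Z : C⦄ (r : Z ⟶ Y), Presieve.FamilyOfElements F ((Sieve.generate R).pullback (r ≫ g)).arrows :=
    fun Z r V l hl => x (l ≫ r) (by
      show (Sieve.generate R) ((l ≫ r) ≫ g)
      rw [Category.assoc]; exact hl)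
  have hxr : ∀ ⦃Z : C⦄ (r : Z ⟶ Y), (xr r).Compatible := by
    intro Z r Y₁ Y₂ V g₁ g₂ f₁ f₂ h₁ h₂ e
    exact hx _ _ _ _ (by simp [reassoc_of% e])
  have hex : ∀ (Z : C) (r : Z ⟶ Y), R₀ r → ∃ t : F.obj (op Z), (xr r).IsAmalgamation t :=
    fun Z r hr => ⟨_, (hCpb hR (r ≫ g) (hR₀C hr)).isAmalgamation (hxr r)⟩
  choose t ht using hex
  have key : ∀ {Z : C} {r : Z ⟶ Y} (hr : R₀ r) {W : C} (m : W ⟶ Z) (hm : S (m ≫ r)),
      F.map m.op (t Z r hr) = x (m ≫ r) hm := by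
    intro Z r hr W m hm
    refine (hsep hR ((m ≫ r) ≫ g)).ext fun V l hl => ?_
    have hl' : ((Sieve.generate R).pullback (r ≫ g)) (l ≫ m) := by
      simpa using hl
    have e1 := ht Z r hr (l ≫ m) hl'
    have e2 := (Presieve.compatible_iff_sieveCompatible x).1 hx (m ≫ r) l hm
    rw [← comp_apply, ← F.map_comp, ← op_comp, ← e2, e1]
    simp only [xr]
    congr 1
    exact Category.assoc l m r
  let tf : Presieve.FamilyOfElements F R₀ := fun Z r hr => t Z r hr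
  have htf : tf.Compatible := by
    intro Y₁ Y₂ W g₁ g₂ f₁ f₂ h₁ h₂ e
    refine (hsep hR ((g₁ ≫ f₁) ≫ g)).ext fun V l hl => ?_
    have hm₁ : S ((l ≫ g₁) ≫ f₁) := by
      show (Sieve.generate R) (((l ≫ g₁) ≫ f₁) ≫ g)
      simpa using hl
    have hm₂ : S ((l ≫ g₂) ≫ f₂) := by
      rwa [Category.assoc, ← e, ← Category.assoc]
    rw [← comp_apply, ← comp_apply, ← F.map_comp, ← F.map_comp, ← op_comp, ← op_comp]
    show F.map _ (t _ _ h₁) = F.map _ (t _ _ h₂)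
    rw [key h₁ _ hm₁, key h₂ _ hm₂]
    congr 1
    simp [e]
  refine ⟨(hP hR₀).amalgamate tf htf, fun W f hf => ?_⟩
  refine (hPpb hR₀ f).isSeparatedFor.ext fun V l hl => ?_
  obtain ⟨Z, q, r, hr, e⟩ := hl
  rw [← comp_apply, ← F.map_comp, ← op_comp, ← e, op_comp, F.map_comp, comp_apply,
    (hP hR₀).valid_glue htf r hr]
  have hq : S (q ≫ r) := by rw [e]; exact S.downward_closed hf l
  show F.map q.op (t Z r hr) = _
  rw [key hr q hq, ← (Presieve.compatible_iff_sieveCompatible x).1 hx f l hf]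
  congr 1

end Groth.Agent.GenTop.Basic
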